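import Cfsg.Agent.H684.EB.Base

/-!
# TEAM EB: simple groups without outer automorphisms of 2-power order

* `EvenS S`: the conclusion of S4522 for `G = S`;
* `evenB_of_evenS` [T00]: `EvenS S` implies `EvenB S` if every automorphism of `S` with an inner 2-power is inner;
* `OneBlock M C`: `C` has only one block.
-/

set_option autoImplicit false

namespace Cfsg.Agent.H684.EB

open Cfsg Cfsg.Agent.H610.EB
open scoped ComplexConjugate

universe u v

/-- EvenS: the conclusion for `G = S` only. -/
def EvenS (S : Type u) [Group S] : Prop :=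
  ∀ k : ℕ, IsK S k → ∀ M : Ideal AlgInt, IsPModular 2 M → ∃ χ ∈ principalBlock M S,
    Even (charDegree (χ : S → ℂ)) ∧ (∀ g : S, (χ : S → ℂ) (g ^ k) = (χ : S → ℂ) g) ∧
      (χ : S → ℂ) ≠ fun _ => 1

/-- `C` has only one `p`-block -/
def OneBlock (M : Ideal AlgInt) (C : Type u) [Group C] : Prop :=
  ∀ χ : IrrCharacter C, χ ∈ principalBlock M C

section
variable {G : Type u} [Group G] {H : Type v} [Group H]

theorem centralChar_comp_equiv (e : G ≃* H) (ψ : H → ℂ) (x : G) :
    centralChar (ψ ∘ e) x = centralChar ψ (e x) := by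
  unfold centralChar
  rw [Function.comp_apply, Function.comp_apply, map_one]
  congr 3
  have h1 : (Subgroup.centralizer ({x} : Set G)) =
      (Subgroup.centralizer ({e x} : Set H)).comap e.toMonoidHom := by
    ext y
    rw [Subgroup.mem_centralizer_singleton_iff, Subgroup.mem_comap,
      Subgroup.mem_centralizer_singleton_iff]
    constructor
    · intro h
      have h2 := congrArg e h
      rw [map_mul, map_mul] at h2
      exact h2
    · intro h
      apply e.injective
      rw [map_mul, map_mul]
      exact h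
  rw [h1]
  exact Subgroup.index_comap_of_surjective _ e.surjective

/-- pull back an irreducible character along an isomorphism -/
def pull (e : G ≃* H) (χ : IrrCharacter H) : IrrCharacter G :=
  ⟨(χ : H → ℂ) ∘ e, Characters.Core.isIrr_comp e.toMonoidHom e.surjective χ.2⟩

theorem pull_apply (e : G ≃* H) (χ : IrrCharacter H) (g : G) :
    (pull e χ : G → ℂ) g = (χ : H → ℂ) (e g) := rfl

theorem pull_mem (e : G ≃* H) {M : Ideal AlgInt} (χ : IrrCharacter H) :
    pull e χ ∈ principalBlock M G ↔ χ ∈ principalBlock M H := by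
  have h1 : ∀ x : G, centralChar (fun _ : G => (1 : ℂ)) x =
      centralChar (fun _ : H => (1 : ℂ)) (e x) := fun x =>
    centralChar_comp_equiv e (fun _ : H => (1 : ℂ)) x
  have h2 : ∀ x : G, centralChar (pull e χ : G → ℂ) x = centralChar (χ : H → ℂ) (e x) := fun x =>
    centralChar_comp_equiv e (χ : H → ℂ) x
  constructor
  · intro h y
    have h3 := h (e.symm y)
    rw [h1, h2, e.apply_symm_apply] at h3
    exact h3
  · intro h x
    rw [h1, h2]
    exact h (e x)

theorem charDegree_pull (e : G ≃* H) (χ : IrrCharacter H) :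
    charDegree (pull e χ : G → ℂ) = charDegree (χ : H → ℂ) := by
  unfold charDegree
  rw [pull_apply, map_one]

theorem isK_congr (e : G ≃* H) {k : ℕ} (h : IsK G k) : IsK H k :=
  h.of_injective e.symm.toMonoidHom e.symm.injective

end

theorem EvenS.congr {S S' : Type u} [Group S] [Group S'] (e : S ≃* S') (h : EvenS S) : EvenS S' := by
  intro k hk M hM
  obtain ⟨χ, h1, h2, h3, h4⟩ := h k (isK_congr e.symm hk) M hM
  refine ⟨pull e.symm χ, (pull_mem e.symm χ).2 h1, ?_, ?_, ?_⟩
  · rw [charDegree_pull]
    exact h2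
  · intro g
    rw [pull_apply, pull_apply, map_pow, h3]
  · intro h5
    apply h4
    funext s
    have h6 := congrFun h5 (e s)
    rw [pull_apply, e.symm_apply_apply] at h6
    exact h6

/-- The conclusion of S4522 for `N = G`. -/
theorem EvenS.concl_top {G : Type u} [Group G] [Fintype G] (h : EvenS G) (N : Subgroup G) [Fintype N]
    (hN : N = ⊤) {k : ℕ} (hk : IsK G k) {M : Ideal AlgInt} (hM : IsPModular 2 M) : Concl M G N k := by
  obtain ⟨χ, h1, h2, h3, h4⟩ := h k hk M hM
  refine ⟨χ, h1, h2, h3, ?_⟩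
  subst hN
  have hirr : IsIrrCharacter ((⊤ : Subgroup G)) (fun s : (⊤ : Subgroup G) => (χ : G → ℂ) s) :=
    Characters.Core.isIrr_comp (⊤ : Subgroup G).subtype (fun g => ⟨⟨g, Subgroup.mem_top g⟩, rfl⟩) χ.2
  refine Characters.Core.classInner_irr_ne hirr Characters.Core.isIrr_one ?_
  intro h5
  apply h4
  funext g
  exact congrFun h5 (⟨g, Subgroup.mem_top g⟩ : (⊤ : Subgroup G))

/-- **[T00]** no outer automorphism of 2-power order -/
theorem evenB_of_evenS {S : Type u} [Group S] (h : EvenS S)
    (hout : ∀ α : S ≃* S, (∃ j : ℕ, ∃ s : S, ∀ x : S, ((α : MulAut S) ^ 2 ^ j) x = s * x * s⁻¹) →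
      ∃ s : S, ∀ x : S, α x = s * x * s⁻¹) : EvenB S := by
  intro G _ _ N hN _ f hC hi k hk M hM
  obtain ⟨e⟩ := f
  have hNtop : N = ⊤ := by
    rw [eq_top_iff]
    intro g _
    let α : S ≃* S := (e.trans (MulAut.conjNormal g : MulAut N)).trans e.symm
    have hα : ∀ x : S, (e (α x) : G) = g * e x * g⁻¹ := by
      intro x
      show ((e (e.symm ((MulAut.conjNormal g : MulAut N) (e x))) : N) : G) = _
      rw [MulEquiv.apply_symm_apply, MulAut.conjNormal_apply]
    have hpow : ∀ (m : ℕ) (x : S), (e (((α : MulAut S) ^ m) x) : G) = g ^ m * e x * (g ^ m)⁻¹ := by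
      intro m
      induction m with
      | zero =>
        intro x
        simp
      | succ m ih =>
        intro x
        rw [pow_succ, MulAut.mul_apply, ih, show ((α : MulAut S) x) = α x from rfl, hα, pow_succ]
        group
    obtain ⟨j, hj⟩ := hi
    have hgj : g ^ 2 ^ j ∈ N := by
      rw [← hj]
      exact Subgroup.pow_index_mem _ _
    obtain ⟨s, hs⟩ := hout α ⟨j, e.symm ⟨g ^ 2 ^ j, hgj⟩, fun x => by
      apply e.injective
      apply Subtype.ext
      rw [hpow, map_mul, map_mul, map_inv, MulEquiv.apply_symm_apply]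
      rfl⟩
    have h2 : (e s : G)⁻¹ * g ∈ Subgroup.centralizer (N : Set G) := by
      rw [Subgroup.mem_centralizer_iff]
      intro n hn
      obtain ⟨x, hx⟩ := e.surjective ⟨n, hn⟩
      have h3 := hα x
      rw [hs x, map_mul, map_mul, map_inv, hx] at h3
      have h4 : (e s : G) * n * (e s : G)⁻¹ = g * n * g⁻¹ := h3
      have h5 : n = (e s : G)⁻¹ * ((e s : G) * n * (e s : G)⁻¹) * e s := by group
      rw [h4] at h5
      calc n * ((e s : G)⁻¹ * g)
          = (e s : G)⁻¹ * (g * n * g⁻¹) * e s * ((e s : G)⁻¹ * g) := by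
            rw [← h5]
        _ = (e s : G)⁻¹ * g * n := by group
    rw [hC, Subgroup.mem_bot] at h2
    rw [← inv_mul_eq_one.1 h2]
    exact (e s).2
  have hSG : S ≃* G := (e.trans (MulEquiv.subgroupCongr hNtop)).trans Subgroup.topEquiv
  exact (h.congr hSG).concl_top N hNtop hk hM

/-- Every automorphism is inner. -/
theorem evenB_of_evenS_of_inner {S : Type u} [Group S] (h : EvenS S)
    (hout : ∀ α : S ≃* S, ∃ s : S, ∀ x : S, α x = s * x * s⁻¹) : EvenB S :=
  evenB_of_evenS h fun α _ => hout α

end Cfsg.Agent.H684.EB
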