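import Cfsg.Agent.H684.EB.Base
import Cfsg.Agent.ClassicalGeometry.PSL2Basic
import Cfsg.Agent.UGT.EndJ1.Data
import Cfsg.Agent.S1152
import Cfsg.Agent.S1157

/-!
# Simple groups with abelian Sylow 2-subgroups

`NA S`: the Sylow 2-subgroups are not commutative. Excluded: `J₁`, the Ree groups, `PSL(2, q)` for `q` even or
`q ≡ 3, 5 mod 8`, the alternating group of degree 5.
-/

set_option autoImplicit false

namespace Cfsg.Agent.H684.EB

open Cfsg

universe u v

/-- The Sylow 2-subgroups are not commutative. -/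
def NA (S : Type u) [Group S] : Prop := ∀ Q : Sylow 2 S, ¬ IsMulCommutative Q

theorem NA.of_one {S : Type u} [Group S] [Finite S] (Q : Sylow 2 S) (hQ : ¬ IsMulCommutative Q) : NA S := by
  have : Fact (Nat.Prime 2) := ⟨Nat.prime_two⟩
  intro R hR
  apply hQ
  have e := Q.equiv R
  refine ⟨⟨fun a b => e.injective ?_⟩⟩
  rw [map_mul, map_mul]
  exact hR.is_comm.comm _ _

theorem NA.false_of {S : Type u} [Group S] (h : NA S) {T : Type v} [Group T] (e : S ≃* T)
    (hT : ∀ Q : Sylow 2 T, ∀ a ∈ Q, ∀ b ∈ Q, a * b = b * a) : False := by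
  have : Fact (Nat.Prime 2) := ⟨Nat.prime_two⟩
  obtain ⟨P⟩ : Nonempty (Sylow 2 S) := inferInstance
  apply h P
  obtain ⟨R, hR⟩ := (P.2.map e.toMonoidHom).exists_le_sylow
  refine ⟨⟨fun a b => ?_⟩⟩
  have h3 := hT R _ (hR ⟨a, a.2, rfl⟩) _ (hR ⟨b, b.2, rfl⟩)
  have h4 : e ((a : S) * b) = e ((b : S) * a) := by
    rw [map_mul, map_mul]
    exact h3
  exact Subtype.ext (e.injective h4)

theorem comm_of_sq {T : Type*} [Group T] {Q : Subgroup T} (h : ∀ x ∈ Q, x * x = 1) :
    ∀ a ∈ Q, ∀ b ∈ Q, a * b = b * a := by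
  intro a ha b hb
  have h1 := inv_eq_of_mul_eq_one_left (h _ (mul_mem ha hb))
  rw [mul_inv_rev, inv_eq_of_mul_eq_one_left (h a ha), inv_eq_of_mul_eq_one_left (h b hb)] at h1
  exact h1.symm

/-- order of a Sylow 2-subgroup at most 4 -/
theorem comm_of_card {T : Type*} [Group T] [Finite T] (h : ¬ 8 ∣ Nat.card T) (Q : Sylow 2 T) :
    ∀ a ∈ Q, ∀ b ∈ Q, a * b = b * a := by
  have : Fact (Nat.Prime 2) := ⟨Nat.prime_two⟩
  obtain ⟨n, hn⟩ := Q.2.exists_card_eq
  have hn3 : n < 3 := by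
    by_contra hcon
    apply h
    have h1 : 2 ^ n ∣ Nat.card T := by
      rw [← hn]
      exact Subgroup.card_subgroup_dvd_card _
    exact (pow_dvd_pow 2 (by omega : 3 ≤ n)).trans h1
  have hcom : ∀ a b : (Q : Subgroup T), a * b = b * a := by
    interval_cases n
    · have h1 := (Nat.card_eq_one_iff_unique.1 (by rw [hn, pow_zero] : Nat.card (Q : Subgroup T) = 1)).1
      exact fun a b => Subsingleton.elim _ _
    · have h1 : IsCyclic (Q : Subgroup T) := isCyclic_of_prime_card (p := 2) (by rw [hn, pow_one])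
      exact fun a b => (IsCyclic.commGroup (α := (Q : Subgroup T))).mul_comm a b
    · exact IsPGroup.commutative_of_card_eq_prime_sq (p := 2) hn
  intro a ha b hb
  exact congrArg Subtype.val (hcom ⟨a, ha⟩ ⟨b, hb⟩)

theorem not_na_j1 {S : Type u} [Group S] (h : Spor.IsoJ1 S) : ¬ NA S := by
  intro hna
  obtain ⟨e⟩ := h
  exact hna.false_of e fun Q => comm_of_sq (Cfsg.Agent.UGT.EndJ1.Data.bal.syl Q).2

theorem not_na_ree {S : Type u} [Group S] (h : Lie.IsoRee S) : ¬ NA S := by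
  intro hna
  obtain ⟨F, _, _, m, hm, hF, ⟨e⟩⟩ := h
  obtain ⟨a, haH, ha1, ha2⟩ := Cfsg.Agent.S1157.exists_involution hF
  obtain ⟨-, hS⟩ := Cfsg.Agent.S1152.result hF a haH ha1 ha2
  exact hna.false_of e fun Q => comm_of_sq (hS Q).2

theorem not_na_a5 {S : Type u} [Group S] (e : S ≃* alternatingGroup (Fin 5)) : ¬ NA S := by
  intro hna
  refine hna.false_of e (comm_of_card ?_)
  rw [nat_card_alternatingGroup]
  simp
  decide

open Matrix in
theorem not_na_psl_two_mod {S : Type u} [Group S] {F : Type*} [Field F] [Fintype F]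
    (hq : Fintype.card F % 8 = 3 ∨ Fintype.card F % 8 = 5) (e : S ≃* ProjectiveSpecialLinearGroup (Fin 2) F) :
    ¬ NA S := by
  intro hna
  have hfin : Finite (ProjectiveSpecialLinearGroup (Fin 2) F) := by
    unfold Matrix.ProjectiveSpecialLinearGroup
    infer_instance
  refine hna.false_of e (comm_of_card ?_)
  have hodd : Odd (Fintype.card F) := by
    rw [Nat.odd_iff]
    omega
  have h1 := ClassicalGeometry.PSL2Basic.card_PSL2_odd (F := F) hodd
  rintro ⟨c, hc⟩
  rw [hc] at h1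
  set q := Fintype.card F with hqdef
  have h2 : 16 ∣ q * (q ^ 2 - 1) := ⟨c, by rw [← h1]; ring⟩
  have h3 : Nat.Coprime 16 q := by
    rw [show 16 = 2 ^ 4 by norm_num]
    exact Nat.Coprime.pow_left 4 (Nat.coprime_two_left.2 hodd)
  have h4 : 16 ∣ q ^ 2 - 1 := h3.dvd_of_dvd_mul_left h2
  have h5 : q ^ 2 % 16 = 9 := by
    have h6 : q % 16 = 3 ∨ q % 16 = 5 ∨ q % 16 = 11 ∨ q % 16 = 13 := by omega
    rw [Nat.pow_mod]
    rcases h6 with h | h | h | h <;> rw [h]
  omega

open Matrix in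
theorem not_na_psl_two_even {S : Type u} [Group S] {F : Type*} [Field F] [Fintype F] [CharP F 2]
    (e : S ≃* ProjectiveSpecialLinearGroup (Fin 2) F) : ¬ NA S := by
  intro hna
  refine hna.false_of e fun Q => comm_of_sq fun x hx => ?_
  obtain ⟨k, hk⟩ := Q.2 ⟨x, hx⟩
  have hk' : x ^ 2 ^ k = 1 := congrArg Subtype.val hk
  clear hx hk
  obtain ⟨A, rfl⟩ := QuotientGroup.mk_surjective x
  have h1 : A ^ 2 ^ k ∈ Subgroup.center (Matrix.SpecialLinearGroup (Fin 2) F) := by
    rw [← QuotientGroup.mk_pow] at hk'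
    exact (QuotientGroup.eq_one_iff _).1 hk'
  rw [Matrix.SpecialLinearGroup.mem_center_iff] at h1
  obtain ⟨r, hr, hA⟩ := h1
  have hr1 : r = 1 := by
    have h2 : r ^ 2 = 1 := by simpa using hr
    have h3 : (r - 1) ^ 2 = 0 := by
      rw [sub_sq, h2]
      have : (2 : F) = 0 := CharTwo.two_eq_zero
      rw [this]
      ring_nf
      exact this
    have h4 := pow_eq_zero_iff (two_ne_zero) |>.1 h3
    exact sub_eq_zero.1 h4
  rw [hr1, map_one] at hA
  -- `A - 1` is nilpotent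
  have hA1 : (A : Matrix (Fin 2) (Fin 2) F) ^ 2 ^ k = 1 := by
    rw [← Matrix.SpecialLinearGroup.coe_pow, ← hA]
  have hchar : CharP (Matrix (Fin 2) (Fin 2) F) 2 := inferInstance
  have h2 : ((A : Matrix (Fin 2) (Fin 2) F) - 1) ^ 2 ^ k = 0 := by
    have h3 := sub_pow_char_pow_of_commute (R := Matrix (Fin 2) (Fin 2) F) (p := 2) (n := k)
      (x := (A : Matrix (Fin 2) (Fin 2) F)) (y := 1) (Commute.one_right _)
    rw [h3, hA1, one_pow, sub_self]
  have h3 : ((A : Matrix (Fin 2) (Fin 2) F) - 1) ^ 2 = 0 := by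
    have h4 : IsNilpotent ((A : Matrix (Fin 2) (Fin 2) F) - 1) := ⟨_, h2⟩
    have h5 := Matrix.isNilpotent_charpoly_sub_pow_of_isNilpotent h4
    have h6 : ((A : Matrix (Fin 2) (Fin 2) F) - 1).charpoly - Polynomial.X ^ 2 = 0 := by
      have := h5.eq_zero
      simpa using this
    have h7 := Matrix.aeval_self_charpoly ((A : Matrix (Fin 2) (Fin 2) F) - 1)
    rw [sub_eq_zero.1 h6] at h7
    simpa using h7
  have h4 : (A : Matrix (Fin 2) (Fin 2) F) * A = 1 := by
    have h5 : ((A : Matrix (Fin 2) (Fin 2) F) - 1) ^ 2 = A * A - 1 := by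
      have h6 := sub_pow_char_of_commute (R := Matrix (Fin 2) (Fin 2) F) (p := 2)
        (x := (A : Matrix (Fin 2) (Fin 2) F)) (y := 1) (Commute.one_right _)
      rw [h6, one_pow, pow_two]
    rw [h5] at h3
    exact sub_eq_zero.1 h3
  have h5 : A * A = 1 := by
    apply Subtype.ext
    rw [Matrix.SpecialLinearGroup.coe_mul, h4]
    rfl
  rw [← QuotientGroup.mk_mul, h5]
  rfl

end Cfsg.Agent.H684.EB
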