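import Cfsg.Agent.H684.EB.N8
import Cfsg.Agent.H684.EB.Excl
import Cfsg.Agent.H104.EB.COne
import Cfsg.Agent.H410.EB.P1B
import Cfsg.Agent.H595.EB.Odd
import Cfsg.Agent.H498.SporOut
import Cfsg.Agent.H273.EB.Mathieu
import Cfsg.Agent.H273.EB.MTwelve
import Cfsg.Agent.H174.EB.M22
import Cfsg.Agent.H352.EB.Jan
import Cfsg.Agent.H689.EB.RowJTwo
import Cfsg.Agent.H689.EB.RowHS
import Cfsg.Agent.H689.EB.RowSuz
import Cfsg.Agent.H305.EB.RuCoTwo
import Cfsg.Agent.H332.EB.McL
import Cfsg.Agent.H332.EB.Fi23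
import Cfsg.Agent.H242.EB.Fi22
import Cfsg.Agent.H242.EB.Fi24
import Cfsg.Agent.H84.EB.He
import Cfsg.Agent.H481.EB.HN
import Cfsg.Agent.H333.EB.ON
import Cfsg.Agent.H61.EB.Ly
import Cfsg.Agent.H701.EB.CoThree
import Cfsg.Agent.H807.EB.M
import Cfsg.Agent.H682.EB.Rows
import Cfsg.Agent.H890.EB.Th

/-!
# TEAM EB: the sporadic table

`evenJ_spor`: every sporadic group with nonabelian Sylow 2-subgroups (all except `J₁`) satisfies `EvenJ`.
-/

set_option autoImplicit false

namespace Cfsg.Agent.H684.EB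

open Cfsg

universe u

/-- If the inner automorphisms have index at most 2, squares are inner. -/
theorem evenJ_of_index {S : Type u} [Group S] (hi : (MulAut.conj : S →* MulAut S).range.index ≤ 2)
    (h0 : (MulAut.conj : S →* MulAut S).range.index ≠ 0) (h : EvenB S) : EvenJ S := by
  have : (MulAut.conj : S →* MulAut S).range.Normal := by
    constructor
    rintro _ ⟨s, rfl⟩ α
    refine ⟨α s, ?_⟩
    apply MulEquiv.ext
    intro x
    rw [MulAut.conj_apply, MulAut.mul_apply, MulAut.mul_apply, MulAut.conj_apply, map_mul, map_mul, map_inv,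
      MulAut.apply_inv_self]
  refine evenJ_of_inner (fun α => ⟨1, ?_⟩) h
  have h1 : ((α : MulAut S)) ^ 2 ∈ (MulAut.conj : S →* MulAut S).range := by
    have h2 := Subgroup.pow_index_mem (MulAut.conj : S →* MulAut S).range (α : MulAut S)
    rcases (by omega : (MulAut.conj : S →* MulAut S).range.index = 1 ∨
      (MulAut.conj : S →* MulAut S).range.index = 2) with h3 | h3
    · rw [h3, pow_one] at h2
      exact pow_mem h2 2
    · rwa [h3] at h2
  obtain ⟨s, hs⟩ := h1
  refine ⟨s, fun x => ?_⟩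
  rw [pow_one, ← hs, MulAut.conj_apply]

theorem evenB_spor {S : Type u} [Group S] [Finite S] [IsSimpleGroup S] (hna : NA S) (h : IsSporadicGroup S) :
    EvenB S := by
  have := Fintype.ofFinite S
  have ob : H352.EB.OB.{u} := fun hM E _ hE hC => H104.EB.COne.oneBlock_of_constrained hM E hE hC
  have p1 : H352.EB.P1.{u} := fun hr hr2 hr1 y hy hreal x hx hxy hC =>
    H410.EB.evenB_of_p1 hr hr2 hr1 y hy hreal x hx hxy hC
  rcases h with h | h | h | h | h | h | h | h | h | h | h | h | h | h | h | h | h | h | h | h | h | h | h | h | h | h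
  · exact H273.EB.m11 h
  · exact H273.EB.m12 h
  · exact H174.EB.evenB_m22 h
  · exact H273.EB.m23 h
  · exact H273.EB.m24 h
  · exact absurd hna (not_na_j1 h)
  · exact H689.EB.JTwo.row h
  · exact H352.EB.evenB_j3 ob p1 h
  · exact H352.EB.evenB_j4 ob p1 h
  · exact H682.EB.evenB_co1 h
  · exact H305.EB.evenB_co2 h
  · exact H701.EB.CoThree.co3 h
  · exact H332.EB.McL.evenB_mcl h
  · exact H689.EB.HS.row h
  · exact H689.EB.Suz.row h
  · exact H84.EB.evenB_he h
  · exact H305.EB.evenB_ru h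
  · exact H333.EB.ON.evenB_on h
  · exact H61.EB.evenB_ly (fun P hP h => H595.EBOdd.evenS_of_odd P hP h) h
  · exact H242.EB.Fi22.evenB h
  · exact H332.EB.FiTh.evenB_fi23 h
  · exact H242.EB.Fi24.evenB h
  · exact H481.EB.evenB_hn h
  · exact H890.EB.th h
  · exact H682.EB.evenB_b h
  · exact H807.EB.evenB_m (fun S _ _ y ho hr Q hQ hna z hz hzQ hzy hC =>
      evenS_of_n8 y ho hr Q hQ hna z hz hzQ hzy hC) h

/-- **The sporadic table.** -/
theorem evenJ_spor {S : Type u} [Group S] [Finite S] [IsSimpleGroup S] (hna : NA S) (h : IsSporadicGroup S) :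
    EvenJ S :=
  evenJ_of_index (H498.SporOut.index_le_two h) Subgroup.index_ne_zero_of_finite (evenB_spor hna h)

end Cfsg.Agent.H684.EB
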