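import Cfsg.Agent.EvenType.ChevTwoTits
import Cfsg.Agent.CpAutTits.Row
import Cfsg.Agent.H600.EB.TitsMain
import Cfsg.Agent.H707.RowTits
import Cfsg.Agent.H783.PglSpor
import Cfsg.Agent.H684.EB.SporTab

/-!
# TEAM EB: the row of the Tits group
-/

set_option autoImplicit false

namespace Cfsg.Agent.H684.EB

open Cfsg

universe u

/-- every involution is good -/
def AllGood (T : Type*) [Group T] : Prop := ∀ x : T, orderOf x = 2 → OddHalf.Small.Crit.Good x

theorem AllGood.congr {T : Type*} [Group T] (hT : AllGood T) {S : Type*} [Group S] (e : S ≃* T) : AllGood S := by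
  intro t ht
  have h2 := OddHalf.Small.Crit.good_map e.symm (hT (e t) (by
    rw [MulEquiv.orderOf_eq, ht]))
  rwa [e.symm_apply_apply] at h2

theorem allGood_TT : AllGood ↥Cfsg.Agent.TitsK.TT := by
  intro x hx
  have hfin : Finite Cfsg.Agent.FourTwo.Base.LL := Cfsg.Agent.FourTwo.Classes.finite_LL
  exact EvenType.ChevTwoTits.good Cfsg.Agent.TitsK.tdata hx

theorem allGood_tits {S : Type u} [Group S] (h : Lie.IsoTits S) : AllGood S := by
  obtain ⟨e⟩ := CpAutTits.Row.exists_equiv h
  exact allGood_TT.congr e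

theorem evenB_tits {K : Type u} [Group K] (h : Lie.IsoTits K) : EvenB K := by
  have h1 := allGood_tits h
  obtain ⟨e1⟩ := h
  obtain ⟨e2⟩ := Cfsg.Agent.H707.RowTits.equiv
  exact H600.EBTits.evenB_of_equiv (e1.trans e2) h1

/-- **The row of the Tits group.** -/
theorem evenJ_tits {S : Type u} [Group S] [Finite S] (h : Lie.IsoTits S) : EvenJ S := by
  have h1 := H783.PglSpor.index_tits h
  exact evenJ_of_index (Nat.le_of_dvd (by norm_num) h1) (by
    rintro h2
    rw [h2] at h1
    exact absurd h1 (by norm_num)) (evenB_tits h)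

end Cfsg.Agent.H684.EB
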