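import Cfsg.Agent.H684.EB.SporTab
import Cfsg.Agent.H694.EB.Table
import Cfsg.Agent.H748.EB.G2
import Cfsg.Agent.H735.EB.RowTwF4
import Cfsg.Agent.H497.EB.Rows
import Cfsg.Agent.H855.EB.Alt
import Cfsg.Agent.H610.EB.G2Row
import Cfsg.Agent.H422.EB.Rows
import Cfsg.Agent.H352.EB.Psu3
import Cfsg.Agent.H352.EB.Sz
import Cfsg.Agent.H610.EB.A2
import Cfsg.Agent.H684.EB.TitsJ
import Cfsg.Agent.OddHalf.Known
import Cfsg.Agent.S0254

/-!
# TEAM EB: the table of the known simple groups

`known`: every known simple group with nonabelian Sylow 2-subgroups satisfies `EvenJ`, from the rows of Lie rank at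
most two (`Rows`).
-/

set_option autoImplicit false

namespace Cfsg.Agent.H684.EB

open Cfsg Cfsg.Agent.H694.EB

universe u

/-- The rows of small rank. -/
structure Rows : Prop where
  psl3_one : ∀ {S : Type u} [Group S] [Finite S] [IsSimpleGroup S] {F : Type} [Field F] [Fintype F],
    Fintype.card F % 4 = 1 → (S ≃* Matrix.ProjectiveSpecialLinearGroup (Fin 3) F) → EvenJ S
  psu3_three : ∀ {S : Type u} [Group S] [Finite S] [IsSimpleGroup S] {F : Type} [Field F] [Fintype F] {q : ℕ},
    Fintype.card F = q ^ 2 → q % 4 = 3 → (S ≃* PSU 3 F q) → EvenJ S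

section
variable {S : Type u} [Group S] [Finite S] [IsSimpleGroup S]

theorem two_dvd_of_na (h : NA S) : 2 ∣ Nat.card S := by
  have : Fact (Nat.Prime 2) := ⟨Nat.prime_two⟩
  by_contra hcon
  obtain ⟨P⟩ : Nonempty (Sylow 2 S) := inferInstance
  apply h P
  have h1 : Nat.card (P : Subgroup S) = 1 := by
    obtain ⟨n, hn⟩ := P.2.exists_card_eq
    rcases Nat.eq_zero_or_pos n with h0 | h0
    · rw [hn, h0, pow_zero]
    · exfalso
      apply hcon
      exact (dvd_pow_self 2 h0.ne').trans (hn ▸ Subgroup.card_subgroup_dvd_card (P : Subgroup S))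
  have h2 := (Nat.card_eq_one_iff_unique.1 h1).1
  exact ⟨⟨fun a b => Subsingleton.elim _ _⟩⟩

theorem psl2_odd (hna : NA S) {F : Type} [Field F] [Fintype F] (hodd : Odd (Fintype.card F))
    (e : S ≃* Matrix.ProjectiveSpecialLinearGroup (Fin 2) F) : EvenJ S := by
  have := Fintype.ofFinite S
  obtain ⟨Q⟩ : Nonempty (Sylow 2 S) := by
    have : Fact (Nat.Prime 2) := ⟨Nat.prime_two⟩
    infer_instance
  exact H497.EB.evenJ_psl2' (Nat.odd_iff.1 hodd) e Q (hna Q)

theorem odd_card {F : Type*} [Field F] [Fintype F] {p : ℕ} [CharP F p] (hp : p.Prime)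
    (hp2 : p ≠ 2) : Odd (Fintype.card F) := by
  have : Fact p.Prime := ⟨hp⟩
  obtain ⟨n, -, hn⟩ := FiniteField.card F p
  rw [hn]
  exact (hp.odd_of_ne_two hp2).pow

theorem low_odd (R : Rows.{u}) {p : ℕ} (hp : p.Prime) (hp2 : p ≠ 2) (hna : NA S) (h : LowOdd p S) : EvenJ S := by
  have := Fintype.ofFinite S
  cases h with
  | psl F iF iT iC n hn h4 e =>
    have hodd := odd_card (F := F) hp hp2
    rcases hn with rfl | rfl
    · exact psl2_odd hna hodd e
    · rcases (by rw [Nat.odd_iff] at hodd; omega : Fintype.card F % 4 = 1 ∨ Fintype.card F % 4 = 3) with h | h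
      · exact R.psl3_one h e
      · exact H497.EB.evenJ_psl3 h e (two_dvd_of_na hna)
  | psu3 F iF iT iC q hF e =>
    have hodd := odd_card (F := F) hp hp2
    have hq : Odd q := by
      rw [hF] at hodd
      exact Nat.Odd.of_mul_left (by rwa [sq] at hodd)
    rcases (by rw [Nat.odd_iff] at hq; omega : q % 4 = 1 ∨ q % 4 = 3) with h | h
    · exact H497.EB.evenJ_psu3 hF h e
    · exact R.psu3_three hF h e
  | g2 F iF iT iC h3 e => exact H610.EB.evenJ_G2 p hp2 e
  | d4 F iF iT iC q hq hF e => exact H610.EB.evenJ_D4 hq hF p hp2 e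
  | ree h3 h => exact absurd hna (not_na_ree h)

theorem low_two (hna : NA S) (h : LowTwo S) : EvenJ S := by
  cases h with
  | psl F iF iT iC n hn h4 e =>
    rcases hn with rfl | rfl
    · exact absurd hna (not_na_psl_two_even e)
    · exact H610.EB.evenJ_psl3_two e
  | psp4 F iF iT iC h3 e => exact H422.EB.evenJ_PSp4 h3 e
  | psu F iF iT iC n q hF hn h32 e =>
    rcases hn with rfl | rfl | rfl
    · exact H352.EB.evenJ_psu3_two hF e
    · exact H422.EB.evenJ_PSU hF (Or.inl rfl) e
    · exact H422.EB.evenJ_PSU hF (Or.inr rfl) e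
  | g2 F iF iT iC h3 e => exact H748.EB.evenJ_G2 e
  | d4 F iF iT iC q hq hF e => exact H748.EB.evenJ_3D4 hq hF e
  | sz h => exact H352.EB.evenJ_sz h
  | f4 h => exact H735.EB.evenJ_2F4 h

theorem alternating (hna : NA S) (h : IsAlternating S) : EvenJ S := by
  obtain ⟨n, hn, ⟨e⟩⟩ := h
  rcases Nat.lt_or_ge n 7 with h7 | h7
  · interval_cases n
    · exact absurd hna (not_na_a5 e)
    · let _ : Fintype (GaloisField 3 2) := Fintype.ofFinite _
      have h9 : Fintype.card (GaloisField 3 2) = 9 := by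
        rw [← Nat.card_eq_fintype_card, GaloisField.card 3 2 (by norm_num)]
        norm_num
      obtain ⟨e'⟩ := Cfsg.Agent.S0254.result h9
      exact psl2_odd hna (by rw [h9]; decide) (e.trans e'.symm)
  · exact H855.EB.evenJ_of_alt h7 e

/-- **The table.** -/
theorem known (R : Rows.{u}) (hc : ¬ IsMulCommutative S) (hna : NA S) (h : IsKnownSimple' S) : EvenJ S := by
  rcases Cfsg.Agent.OddHalf.Known.classify hc h with h | ⟨p, hp, hp2, h⟩ | (h | h) | h
  · exact alternating hna h
  · exact (lie_odd hp hp2 h).elim id (low_odd R hp hp2 hna)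
  · exact (lie_two h).elim id (low_two hna)
  · exact evenJ_tits h
  · exact evenJ_spor hna h

end

end Cfsg.Agent.H684.EB
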